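import Groth.Prelude.Def_ModSt
import Groth.Agent.QCoh.Support
import Groth.Agent.QCoh.Pullback
import Groth.Agent.QCoh.PullbackBC
import Groth.Agent.QCoh.FT
import Groth.Agent.MorLib.FlatBC
import Mathlib.AlgebraicGeometry.Modules.Sheaf

/-!
# Categories of modules on base changes are fibred in groupoids
-/

set_option autoImplicit false
set_option backward.isDefEq.respectTransparency false
set_option backward.isDefEq.respectTransparency.types false
set_option linter.style.haveILetI false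

universe u

open CategoryTheory CategoryTheory.Limits AlgebraicGeometry Opposite

namespace Groth.Agent.ModStLib

/-- Finite presentation is stable under pullback. -/
theorem isFP_pullback {X Y : Scheme.{u}} (f : Y ⟶ X) {M : X.Modules} (hfp : CohB1.IsFP M) :
    CohB1.IsFP ((Scheme.Modules.pullback f).obj M) := by
  have hM : Coh.IsQCoh M := QCoh.isQCoh_of_isFP hfp
  let ι := {p : Y.affineOpens × X.affineOpens // (p.1.1 : Y.Opens) ≤ f ⁻¹ᵁ p.2.1}
  refine QCoh.isFP_of_finitePresentation (QCoh.isQCoh_pullback f hM) (fun i : ι => i.1.1.1) ?_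
    (fun i => i.1.1.2) fun i => ?_
  · exact top_le_iff.1 fun y _ => TopologicalSpace.Opens.mem_iSup.2 <| by
      obtain ⟨_, ⟨U, hU, rfl⟩, hxU, -⟩ :=
        X.isBasis_affineOpens.exists_subset_of_mem_open (Set.mem_univ (f y)) isOpen_univ
      obtain ⟨_, ⟨W, hW, rfl⟩, hyW, hWU⟩ :=
        Y.isBasis_affineOpens.exists_subset_of_mem_open (show y ∈ f ⁻¹ᵁ U from hxU) (f ⁻¹ᵁ U).2
      exact ⟨⟨(⟨W, hW⟩, ⟨U, hU⟩), hWU⟩, hyW⟩
  · obtain ⟨⟨⟨W, hW⟩, ⟨U, hU⟩⟩, hWU⟩ := i
    let N := (Scheme.Modules.pullback f).obj M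
    letI : Algebra Γ(X, U) Γ(Y, W) := (f.appLE U W hWU).hom.toAlgebra
    letI : Module Γ(X, U) Γ(N, W) := Module.compHom _ (f.appLE U W hWU).hom
    haveI : IsScalarTower Γ(X, U) Γ(Y, W) Γ(N, W) :=
      ⟨fun a b c => mul_smul ((f.appLE U W hWU).hom a) b c⟩
    haveI := QCoh.finitePresentation_of_isFP hfp hU
    let l : Γ(M, U) →ₗ[Γ(X, U)] Γ(N, W) :=
      { toFun := QCoh.pullSec f M hWU
        map_add' := QCoh.pullSec_add f M hWU
        map_smul' := QCoh.pullSec_smul f M hWU }
    exact Module.FinitePresentation.of_equiv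
      (QCoh.isBaseChange_pullback hU f hW hM hWU (fun r => rfl) l fun x => rfl).equiv

/-- The unit of the adjunction is a cartesian comparison map. -/
theorem isCart_unit {Y Z : Scheme.{u}} (h : Y ⟶ Z) (N : Z.Modules) :
    ModSt.IsCart h ((Scheme.Modules.pullbackPushforwardAdjunction h).unit.app N) := fun M' => by
  have heq : (fun v : (Scheme.Modules.pullback h).obj N ⟶ M' =>
      (Scheme.Modules.pullbackPushforwardAdjunction h).unit.app N ≫ (Scheme.Modules.pushforward h).map v) =
      (Scheme.Modules.pullbackPushforwardAdjunction h).homEquiv N M' := by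
    funext v
    exact ((Scheme.Modules.pullbackPushforwardAdjunction h).homEquiv_unit (X := N) (Y := M') (f := v)).symm
  rw [heq]
  exact Equiv.bijective _

/-- The module of a cartesian comparison is the pullback. -/
theorem nonempty_iso_of_isCart {Y Z : Scheme.{u}} {h : Y ⟶ Z} {N : Z.Modules} {M : Y.Modules}
    {c : N ⟶ (Scheme.Modules.pushforward h).obj M} (hc : ModSt.IsCart h c) :
    Nonempty ((Scheme.Modules.pullback h).obj N ≅ M) := by
  obtain ⟨v, hv⟩ := (hc ((Scheme.Modules.pullback h).obj N)).2 ((Scheme.Modules.pullbackPushforwardAdjunction h).unit.app N)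
  obtain ⟨w, hw⟩ := (isCart_unit h N M).2 c
  simp only at hv hw
  refine ⟨{ hom := w, inv := v, hom_inv_id := (isCart_unit h N _).1 ?_, inv_hom_id := (hc _).1 ?_ }⟩
  · simp only [Functor.map_comp, reassoc_of% hw, hv, CategoryTheory.Functor.map_id, Category.comp_id]
  · simp only [Functor.map_comp, reassoc_of% hv, hw, CategoryTheory.Functor.map_id, Category.comp_id]

variable {X S : Scheme.{u}} {f : X ⟶ S}

theorem hom_ext_congr {A B : ModSt.Obj f} {φ ψ : A ⟶ B} (hb : φ.base = ψ.base) (ht : φ.top = ψ.top)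
    (hc : φ.c ≫ (Scheme.Modules.pushforwardCongr ht).hom.app A.E = ψ.c) : φ = ψ := by
  obtain ⟨b, t, wp, wq, c, hcart⟩ := φ
  obtain ⟨b', t', wp', wq', c', hcart'⟩ := ψ
  dsimp only at hb ht hc
  subst hb; subst ht
  have : c = c' := by
    rw [← hc]
    refine Scheme.Modules.hom_ext _ _ fun U => ?_
    ext x
    simp
  subst this
  rfl

/-- Every morphism of modules on base changes is strongly cartesian. -/
theorem existsUnique_lift {A B C : ModSt.Obj f} (φ : B ⟶ C) (ψ : A ⟶ C) (g : A.base ⟶ B.base)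
    (hg : g ≫ φ.base = ψ.base) : ∃! χ : A ⟶ B, χ.base = g ∧ χ ≫ φ = ψ := by
  have hP := ModSt.Obj.Hom.isPullback_top φ
  have hw : ψ.top ≫ C.q = (A.q ≫ g.left) ≫ φ.base.left := by
    rw [ψ.w_q, Category.assoc, ← Over.comp_left, hg]
  let t : A.XT ⟶ B.XT := hP.lift ψ.top (A.q ≫ g.left) hw
  have ht₁ : t ≫ φ.top = ψ.top := hP.lift_fst _ _ _
  have ht₂ : t ≫ B.q = A.q ≫ g.left := hP.lift_snd _ _ _
  let F : (B.E ⟶ (Scheme.Modules.pushforward t).obj A.E) →
      (C.E ⟶ (Scheme.Modules.pushforward ψ.top).obj A.E) := fun v =>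
    (φ.c ≫ (Scheme.Modules.pushforward φ.top).map v ≫ (Scheme.Modules.pushforwardComp t φ.top).hom.app A.E) ≫
      (Scheme.Modules.pushforwardCongr ht₁).hom.app A.E
  have hF : Function.Bijective F := by
    let e : (Scheme.Modules.pushforward φ.top).obj ((Scheme.Modules.pushforward t).obj A.E) ≅
        (Scheme.Modules.pushforward ψ.top).obj A.E :=
      (Scheme.Modules.pushforwardComp t φ.top).app A.E ≪≫ (Scheme.Modules.pushforwardCongr ht₁).app A.E
    have : F = e.homToEquiv ∘ (fun v => φ.c ≫ (Scheme.Modules.pushforward φ.top).map v) := by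
      funext v
      simp [F, e, Iso.homToEquiv_apply]
    rw [this]
    exact (Equiv.bijective _).comp (φ.cart _)
  obtain ⟨c, hc⟩ := hF.2 ψ.c
  have hcart : ModSt.IsCart t c := fun M' => by
    let e : (Scheme.Modules.pushforward φ.top).obj ((Scheme.Modules.pushforward t).obj M') ≅
        (Scheme.Modules.pushforward ψ.top).obj M' :=
      (Scheme.Modules.pushforwardComp t φ.top).app M' ≪≫ (Scheme.Modules.pushforwardCongr ht₁).app M'
    have h1 : Function.Bijective (fun w : B.E ⟶ (Scheme.Modules.pushforward t).obj M' =>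
        e.homToEquiv (φ.c ≫ (Scheme.Modules.pushforward φ.top).map w)) :=
      (Equiv.bijective _).comp (φ.cart _)
    have h2 : (fun w : B.E ⟶ (Scheme.Modules.pushforward t).obj M' =>
        e.homToEquiv (φ.c ≫ (Scheme.Modules.pushforward φ.top).map w)) ∘
          (fun v : A.E ⟶ M' => c ≫ (Scheme.Modules.pushforward t).map v) =
        fun v : A.E ⟶ M' => ψ.c ≫ (Scheme.Modules.pushforward ψ.top).map v := by
      funext v
      rw [← hc]
      refine Scheme.Modules.hom_ext _ _ fun U => ?_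
      ext x
      simp [F, e, Iso.homToEquiv_apply]
      exact (NatTrans.naturality_apply v.mapPresheaf _ _).symm
    exact (Function.Bijective.of_comp_iff' h1 _).1 (h2 ▸ ψ.cart M')
  refine ⟨⟨g, t, ?_, ht₂, c, hcart⟩, ⟨rfl, hom_ext_congr hg ht₁ hc⟩, ?_⟩
  · rw [← φ.w_p, reassoc_of% ht₁, ψ.w_p]
  · rintro χ ⟨hb, hχ⟩
    have htop : χ.top = t := hP.hom_ext (by rw [ht₁, ← hχ]; rfl) (by rw [ht₂, χ.w_q, hb])
    refine hom_ext_congr hb htop (hF.1 ?_)
    show F (χ.c ≫ (Scheme.Modules.pushforwardCongr htop).hom.app A.E) = F c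
    rw [hc]
    subst hχ
    refine Scheme.Modules.hom_ext _ _ fun U => ?_
    ext x
    simp [F]
    rfl

theorem isHomLift_iff {A B : ModSt.Obj f} (χ : A ⟶ B) (g : A.base ⟶ B.base) :
    (ModSt.Fam f).p.IsHomLift g χ ↔ χ.base = g := by
  constructor
  · intro h; exact (IsHomLift.eq_of_isHomLift (ModSt.Fam f).p g χ).symm
  · intro h; subst h; exact IsHomLift.map (ModSt.Fam f).p χ

/-- A full subcategory of the category of modules closed under pullback is fibred in groupoids. -/
theorem isFibGrpd_fullSub_fam (P : ModSt.Obj f → Prop)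
    (hP : ∀ (A : ModSt.Obj f), P A → ∀ (XT : Scheme.{u}) (T : Over S) (b : T ⟶ A.base) (t : XT ⟶ A.XT) (q : XT ⟶ T.left)
      (hsq : IsPullback t q A.q b.left) (hp : IsPullback (t ≫ A.p) q f T.hom),
      P ⟨T, XT, t ≫ A.p, q, hp, (Scheme.Modules.pullback t).obj A.E⟩) :
    FibCat.IsFibGrpd (AlgSt.fullSub (ModSt.Fam f) P).p := by
  constructor
  · intro x T b
    let A : ModSt.Obj f := x.obj
    let b' : T ⟶ A.base := b
    have hsq := IsPullback.of_hasPullback A.q b'.left
    have hp : IsPullback (pullback.fst A.q b'.left ≫ A.p) (pullback.snd A.q b'.left) f T.hom := by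
      rw [← Over.w b']
      exact hsq.paste_horiz A.isPullback
    let B : ModSt.Obj f := ⟨T, pullback A.q b'.left, pullback.fst A.q b'.left ≫ A.p, pullback.snd A.q b'.left,
      hp, (Scheme.Modules.pullback (pullback.fst A.q b'.left)).obj A.E⟩
    let φ : B ⟶ A := ⟨b', pullback.fst A.q b'.left, rfl, pullback.condition, _, isCart_unit _ A.E⟩
    let y : ObjectProperty.FullSubcategory P := ⟨B, hP A x.property _ T b' _ _ hsq hp⟩
    let φ' : y ⟶ x := ObjectProperty.homMk φ
    exact ⟨y, φ', IsHomLift.map (AlgSt.fullSub (ModSt.Fam f) P).p φ'⟩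
  · intro y x φ
    refine { universal_property' := fun {z} g ψ hψ => ?_, toIsHomLift := IsHomLift.map _ φ }
    have hg : g ≫ φ.hom.base = ψ.hom.base := IsHomLift.eq_of_isHomLift (AlgSt.fullSub (ModSt.Fam f) P).p (g ≫ (AlgSt.fullSub (ModSt.Fam f) P).p.map φ) ψ
    obtain ⟨χ, ⟨hb, hχ⟩, huniq⟩ := existsUnique_lift φ.hom ψ.hom g hg
    refine ⟨ObjectProperty.homMk χ, ⟨?_, ObjectProperty.hom_ext _ hχ⟩, ?_⟩
    · subst hb; exact IsHomLift.map (AlgSt.fullSub (ModSt.Fam f) P).p (ObjectProperty.homMk χ)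
    · rintro χ' ⟨h1, h2⟩
      refine ObjectProperty.hom_ext _ (huniq χ'.hom ⟨?_, congrArg (fun k => k.hom) h2⟩)
      exact (IsHomLift.eq_of_isHomLift (AlgSt.fullSub (ModSt.Fam f) P).p g χ').symm

/-- The category of flat finitely presented modules is fibred in groupoids. -/
theorem isFibGrpd_coh (f : X ⟶ S) : FibCat.IsFibGrpd (ModSt.Coh f).p :=
  isFibGrpd_fullSub_fam ModSt.IsCohObj fun A hA _ _ _ t _ hsq _ =>
    ⟨fun x' => MorLib.FlatBC.isFlatOverAt_baseChange A.q _ t _ hsq A.E x' (hA.1 _), isFP_pullback t hA.2⟩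

end Groth.Agent.ModStLib
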