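import Groth.Agent.S1393
import Groth.Agent.FibFlat.Stalk
import Groth.Agent.MorLib.FlatBC
import Groth.Agent.ConsPropLib.FibreLocFreeRank
import Groth.Agent.ModStLib.FibGrpd
import Groth.Agent.CurvOpenLib.OpenSub

/-!
# The open locus where a flat finitely presented family of modules is invertible
-/

set_option autoImplicit false
set_option backward.isDefEq.respectTransparency false
set_option backward.isDefEq.respectTransparency.types false
set_option linter.style.haveILetI false

universe u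

open CategoryTheory CategoryTheory.Limits AlgebraicGeometry Opposite IsLocalRing TensorProduct

namespace Groth.Agent.ModStLib

/-- Freeness descends along a base change inducing a flat extension of the closed fibres. -/
theorem free_of_baseChange {A B B' M : Type u} [CommRing A] [IsLocalRing A] [CommRing B] [IsLocalRing B]
    [CommRing B'] [IsLocalRing B'] [Algebra A B] [IsLocalHom (algebraMap A B)] [Algebra B B']
    [IsLocalHom (algebraMap B B')]
    [AddCommGroup M] [Module B M] [Module A M] [IsScalarTower A B M]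
    [Module.FinitePresentation B M] [Module.Flat A M]
    (I' : Ideal B') (hI' : I' ≤ maximalIdeal B')
    (hle : (maximalIdeal A).map (algebraMap A B) ≤ I'.comap (algebraMap B B'))
    (hflat : (Ideal.quotientMap I' (algebraMap B B') hle).Flat) [Module.Free B' (B' ⊗[B] M)] :
    Module.Free B M ∧ Module.finrank B M = Module.finrank B' (B' ⊗[B] M) := by
  let I := (maximalIdeal A).map (algebraMap A B)
  haveI : Nontrivial (B ⧸ I) := Ideal.Quotient.nontrivial_iff.2 fun e =>
    (maximalIdeal.isMaximal B).ne_top (top_le_iff.1 (e ▸ map_maximalIdeal_le _))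
  haveI : Nontrivial (B' ⧸ I') := Ideal.Quotient.nontrivial_iff.2 fun e =>
    (maximalIdeal.isMaximal B').ne_top (top_le_iff.1 (e ▸ hI'))
  haveI : IsLocalRing (B ⧸ I) := .of_surjective' _ Ideal.Quotient.mk_surjective
  haveI : IsLocalRing (B' ⧸ I') := .of_surjective' _ Ideal.Quotient.mk_surjective
  letI : Algebra (B ⧸ I) (B' ⧸ I') := (Ideal.quotientMap I' (algebraMap B B') hle).toAlgebra
  haveI : IsScalarTower B (B ⧸ I) (B' ⧸ I') := IsScalarTower.of_algebraMap_eq fun _ => rfl
  haveI : IsLocalHom (algebraMap (B ⧸ I) (B' ⧸ I')) := by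
    constructor
    intro b hb
    obtain ⟨b, rfl⟩ := Ideal.Quotient.mk_surjective b
    have hb' : IsUnit (Ideal.Quotient.mk I' (algebraMap B B' b)) := hb
    haveI : IsLocalHom (Ideal.Quotient.mk I') := IsLocalHom.of_surjective _ Ideal.Quotient.mk_surjective
    exact (isUnit_of_map_unit _ b (isUnit_of_map_unit _ _ hb')).map _
  haveI : Module.Flat (B ⧸ I) (B' ⧸ I') := hflat
  haveI : Module.FaithfullyFlat (B ⧸ I) (B' ⧸ I') :=
    Module.FaithfullyFlat.of_flat_of_isLocalHom (A := B ⧸ I) (B := B' ⧸ I')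
  let e : (B' ⧸ I') ⊗[B ⧸ I] ((B ⧸ I) ⊗[B] M) ≃ₗ[B' ⧸ I'] (B' ⧸ I') ⊗[B'] (B' ⊗[B] M) :=
    (AlgebraTensorModule.cancelBaseChange B (B ⧸ I) (B' ⧸ I') (B' ⧸ I') M).trans
      (AlgebraTensorModule.cancelBaseChange B B' (B' ⧸ I') (B' ⧸ I') M).symm
  haveI : Module.Flat (B' ⧸ I') ((B' ⧸ I') ⊗[B ⧸ I] ((B ⧸ I) ⊗[B] M)) := Module.Flat.of_linearEquiv e
  haveI : Module.Flat (B ⧸ I) ((B ⧸ I) ⊗[B] M) := Module.Flat.of_flat_tensorProduct _ _ (B' ⧸ I')
  have hfree : Module.Free B M := S1393.free_of_fibre (A := A) (B := B) (M := M) <|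
    Module.Flat.of_linearEquiv
      ((TensorProduct.quotTensorEquivQuotSMul M I).extendScalarsOfSurjective Ideal.Quotient.mk_surjective).symm
  exact ⟨hfree, Module.finrank_baseChange.symm⟩

theorem flat_quotientMap_congr {B B' : Type u} [CommRing B] [CommRing B'] {I₁ I₂ : Ideal B} {J : Ideal B'}
    {φ₁ φ₂ : B →+* B'} (eI : I₁ = I₂) (eφ : φ₁ = φ₂) (h₁ : I₁ ≤ J.comap φ₁) (h₂ : I₂ ≤ J.comap φ₂)
    (h : (Ideal.quotientMap J φ₁ h₁).Flat) : (Ideal.quotientMap J φ₂ h₂).Flat := by
  subst eI eφ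
  exact h

variable {X : Scheme.{u}}

/-- A module is free of rank one near a point. -/
def LF1 (M : X.Modules) (x : X) : Prop :=
  ∃ U : X.Opens, x ∈ U ∧ Nonempty (M.restrict U.ι ≅ FlatMod.freeMod (U : Scheme.{u}) 1)

theorem isOpen_LF1 (M : X.Modules) : IsOpen {x | LF1 M x} := by
  rw [isOpen_iff_forall_mem_open]
  rintro x ⟨U, hx, hU⟩
  exact ⟨U, fun z hz => ⟨U, hz, hU⟩, U.2, hx⟩

theorem free_stalk_of_LF1 {M : X.Modules} (hM : CohB1.IsFP M) {x : X} (h : LF1 M x) :
    Module.Free (X.presheaf.stalk x) (M.presheaf.stalk x) ∧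
      Module.finrank (X.presheaf.stalk x) (M.presheaf.stalk x) = 1 := by
  obtain ⟨U, hx, ⟨e⟩⟩ := h
  obtain ⟨_, ⟨V, hV, rfl⟩, hxV, hle⟩ :=
    X.isBasis_affineOpens.exists_subset_of_mem_open (show x ∈ U from hx) U.2
  obtain ⟨l⟩ := QCoh.exists_linearEquiv_of_freeIso (QCoh.freeChart hV hle e)
  let l' := (QCoh.chartEquiv hV M).trans l
  have hq := QCoh.isQCoh_of_isFP hM
  refine ⟨?_, QCoh.finrank_stalk_of_freeChart hV hq l' hxV⟩
  haveI : Module.Free Γ(X, V) Γ(M, V) := Module.Free.of_equiv l'.symm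
  letI := QCoh.stalkAlg (X := X) hxV
  letI := QCoh.stalkModule M hxV
  haveI := QCoh.isScalarTower_stalk M hxV
  haveI := QCoh.isLocalization_stalk' hV hxV
  haveI := QCoh.isLocalizedModule_germLin hq hV hxV
  exact Module.free_of_isLocalizedModule (hV.primeIdealOf ⟨x, hxV⟩).asIdeal.primeCompl (QCoh.germLin M hxV)

theorem LF1_of_free_stalk {M : X.Modules} (hM : CohB1.IsFP M) {x : X}
    (h : Module.Free (X.presheaf.stalk x) (M.presheaf.stalk x))
    (hr : Module.finrank (X.presheaf.stalk x) (M.presheaf.stalk x) = 1) : LF1 M x := by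
  obtain ⟨U, n, hx, ⟨e⟩⟩ := QCoh.exists_free_nhd_of_free_stalk hM x
  obtain ⟨_, ⟨V, hV, rfl⟩, hxV, hle⟩ :=
    X.isBasis_affineOpens.exists_subset_of_mem_open (show x ∈ U from hx) U.2
  obtain ⟨l⟩ := QCoh.exists_linearEquiv_of_freeIso (QCoh.freeChart hV hle e)
  have := (QCoh.finrank_stalk_of_freeChart hV (QCoh.isQCoh_of_isFP hM) ((QCoh.chartEquiv hV M).trans l) hxV).symm.trans hr
  subst this
  exact ⟨U, hx, ⟨e⟩⟩

variable {X' T T' : Scheme.{u}}

/-- Being free of rank one at a point does not change under base change of a flat family. -/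
theorem LF1_pullback_iff {g : X' ⟶ X} {q' : X' ⟶ T'} {q : X ⟶ T} {b : T' ⟶ T} (sq : IsPullback g q' q b)
    {M : X.Modules} (hM : CohB1.IsFP M) (x' : X') (hfl : FlatMod.IsFlatOverAt q M (g x')) :
    LF1 ((Scheme.Modules.pullback g).obj M) x' ↔ LF1 M (g x') := by
  have hM' := isFP_pullback g hM
  let B := X.presheaf.stalk (g x')
  let B' := X'.presheaf.stalk x'
  let N := M.presheaf.stalk (g x')
  letI : Algebra B B' := (g.stalkMap x').hom.toAlgebra
  let e : ((Scheme.Modules.pullback g).obj M).presheaf.stalk x' ≃ₗ[B'] B' ⊗[B] N :=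
    ((KFlatLib.stalkPullbackIso g x').app M).toLinearEquiv
  constructor
  · intro h
    obtain ⟨hfree, hr⟩ := free_stalk_of_LF1 hM' h
    haveI : Module.Free B' (B' ⊗[B] N) := by
      haveI := hfree
      exact Module.Free.of_equiv e
    let A := T.presheaf.stalk (q (g x'))
    letI : Algebra A B := (q.stalkMap (g x')).hom.toAlgebra
    letI : Module A N := FlatMod.moduleStalkOver q M (g x')
    haveI : IsScalarTower A B N := IsScalarTower.of_algebraMap_smul fun _ _ => rfl
    haveI : Module.Flat A N := hfl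
    haveI : IsLocalHom (algebraMap A B) := inferInstanceAs (IsLocalHom (q.stalkMap (g x')).hom)
    haveI : IsLocalHom (algebraMap B B') := inferInstanceAs (IsLocalHom (g.stalkMap x').hom)
    haveI : Module.FinitePresentation B N := S1393.fp_stalk (QCoh.isQCoh_of_isFP hM) hM (g x')
    let I' := (maximalIdeal (T'.presheaf.stalk (q' x'))).map (FibFlat.sm q' x' (q' x') rfl)
    have hle : (maximalIdeal A).map (algebraMap A B) ≤ I'.comap (algebraMap B B') := by
      rw [Ideal.map_le_iff_le_comap]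
      intro a ha
      show (g.stalkMap x').hom ((q.stalkMap (g x')).hom a) ∈ I'
      have hy : b (q' x') = q (g x') := by
        rw [← Scheme.Hom.comp_apply, ← sq.w, Scheme.Hom.comp_apply]
      have e2 : (FibFlat.sm g x' (g x') rfl).comp (FibFlat.sm q (g x') (q (g x')) rfl) =
          (FibFlat.sm q' x' (q' x') rfl).comp (FibFlat.sm b (q' x') (q (g x')) hy) := by
        rw [← FibFlat.sm_comp g q x' (g x') (q (g x')) rfl rfl, ← FibFlat.sm_comp q' b x' (q' x') (q (g x')) rfl hy]
        exact FibFlat.sm_congr sq.w _ _ _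
      have e3 := RingHom.congr_fun e2 a
      simp only [FibFlat.sm_self, RingHom.comp_apply] at e3
      erw [e3]
      haveI := FibFlat.isLocalHom_sm b (q' x') (q (g x')) hy
      rw [← FibFlat.sm_self q' x']
      exact Ideal.mem_map_of_mem _ (map_nonunit (FibFlat.sm b (q' x') (q (g x')) hy) a ha)
    have e1 : (maximalIdeal (T.presheaf.stalk (q (g x')))).map (FibFlat.sm q (g x') (q (g x')) rfl) =
        (maximalIdeal A).map (algebraMap A B) := by rw [FibFlat.sm_self]; rfl
    have e2 : FibFlat.sm g x' (g x') rfl = algebraMap B B' := FibFlat.sm_self g x'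
    have hflat : (Ideal.quotientMap I' (algebraMap B B') hle).Flat :=
      flat_quotientMap_congr e1 e2 _ hle
        (FibFlat.quotient_flat_of_isPullback sq x' (by rw [e1, e2]; exact hle))
    obtain ⟨h1, h2⟩ := free_of_baseChange (A := A) (B := B) (B' := B') (M := N) I' (map_maximalIdeal_le _) hle hflat
    exact LF1_of_free_stalk hM h1 (h2.trans (e.finrank_eq.symm.trans hr))
  · intro h
    obtain ⟨hfree, hr⟩ := free_stalk_of_LF1 hM h
    haveI : Module.Free B N := hfree
    refine LF1_of_free_stalk hM' (Module.Free.of_equiv e.symm) ?_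
    rw [e.finrank_eq, Module.finrank_baseChange, hr]

theorem LF1_iso {M N : X.Modules} (e : M ≅ N) (x : X) : LF1 M x ↔ LF1 N x :=
  ⟨fun ⟨U, hx, ⟨i⟩⟩ => ⟨U, hx, ⟨((Scheme.Modules.restrictFunctor U.ι).mapIso e).symm ≪≫ i⟩⟩,
    fun ⟨U, hx, ⟨i⟩⟩ => ⟨U, hx, ⟨(Scheme.Modules.restrictFunctor U.ι).mapIso e ≪≫ i⟩⟩⟩

variable {S : Scheme.{u}} {f : X ⟶ S}

/-- The locus on the base over which a flat family of modules is invertible. -/
def invertibleLocus [IsProper f] (A : ModSt.Obj f) : A.base.left.Opens :=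
  ⟨(A.q '' {z | LF1 A.E z}ᶜ)ᶜ, by
    haveI : IsProper A.q := MorphismProperty.of_isPullback (P := @IsProper) A.isPullback inferInstance
    exact (A.q.isClosedMap _ (isOpen_LF1 A.E).isClosed_compl).isOpen_compl⟩

/-- The open locus data of invertibility. -/
def locusData_rankOne [IsProper f] :
    CurvOpenLib.LocusData (𝒳 := ModSt.Coh f) (fun A => FlatMod.IsFinLocFreeOfRank 1 A.obj.E) where
  V A := invertibleLocus A.obj
  spec B A φ := by
    have sq := ModSt.Obj.Hom.isPullback_top φ.hom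
    obtain ⟨e⟩ := nonempty_iso_of_isCart φ.hom.cart
    have key : ∀ z, LF1 B.obj.E z ↔ LF1 A.obj.E (φ.hom.top z) := fun z =>
      (LF1_iso e.symm z).trans (LF1_pullback_iff sq A.property.2 z (A.property.1 _))
    constructor
    · rintro h _ ⟨t, rfl⟩ ⟨z, hz, hzt⟩
      obtain ⟨w, hw, -⟩ := Scheme.exists_preimage_of_isPullback sq z t hzt
      exact hz (hw ▸ (key w).1 (h w))
    · intro h z
      by_contra hz
      refine h ⟨B.obj.q z, rfl⟩ ⟨φ.hom.top z, fun hc => hz ((key z).2 hc), ?_⟩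
      rw [← Scheme.Hom.comp_apply, φ.hom.w_q, Scheme.Hom.comp_apply]
      rfl

end Groth.Agent.ModStLib
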